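import Groth.Agent.H7Blow.PerfectBlowUp
import Groth.Prelude.Def_RegImm

/-!
# Tor-independent base change of blow-ups in Koszul-regular ideals
-/

set_option autoImplicit false
set_option linter.style.haveILetI false
universe u

open CategoryTheory Limits AlgebraicGeometry TopologicalSpace TensorProduct MvPolynomial
open Groth.Agent.H16Derived.KoszulPow Groth.Agent.H26Blow

namespace Groth.Agent.H7Blow

/-- Near every point the ideal sheaf is generated by a Koszul-regular sequence. -/
theorem exists_affine_reg_ideal {X : Scheme.{u}} {𝓘 : X.IdealSheafData}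
    (h : RegImm.IsRegularIdeal .koszul 𝓘) (x : X) :
    ∃ U : X.affineOpens, x ∈ U.1 ∧ ∃ rs : List Γ(X, U.1), Reg rs ∧ 𝓘.ideal U = Ideal.ofList rs := by
  by_cases hx : x ∈ 𝓘.support
  · obtain ⟨U, hxU, rs, hrs, hI⟩ := h x hx
    exact ⟨U, hxU, rs, (reg_iff _).2 hrs, hI⟩
  · have hopen : IsOpen (𝓘.support : Set X)ᶜ := 𝓘.support.isClosed.isOpen_compl
    obtain ⟨U, hU, hxU, hUle⟩ := exists_isAffineOpen_mem_and_subset (U := ⟨_, hopen⟩) (x := x) hx
    refine ⟨⟨U, hU⟩, hxU, [1], (reg_iff _).2 (H29Slice.isKoszulRegular_of_isWeaklyRegular ?_), ?_⟩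
    · exact (RingTheory.Sequence.isWeaklyRegular_cons_iff _ _ _).2
        ⟨IsSMulRegular.one _, RingTheory.Sequence.IsWeaklyRegular.nil _ _⟩
    · rw [Ideal.ofList_singleton, Ideal.span_singleton_one]
      by_contra hne
      obtain ⟨m, hm, hle⟩ := Ideal.exists_le_maximal _ hne
      have h1 : hU.fromSpec ⟨m, hm.isPrime⟩ ∈ (𝓘.support : Set X) ∩ U := by
        rw [Scheme.IdealSheafData.coe_support_inter 𝓘 ⟨U, hU⟩, ← hU.fromSpec_image_zeroLocus]
        exact ⟨_, hle, rfl⟩
      exact hUle h1.2 h1.1

/-- The head of a Koszul-regular sequence stays a non-zero-divisor on the base change of the chart, as long as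
the sequence stays Koszul-regular. -/
theorem baseChange_nonZeroDivisor {A A' : Type u} [CommRing A] [CommRing A'] [Algebra A A'] {n : ℕ} (a : A)
    (c : Fin n → A) (H : Reg (a :: List.ofFn c))
    (H' : Reg (algebraMap A A' a :: List.ofFn fun j => algebraMap A A' (c j))) :
    (algebraMap A ((chartHom a c).range ⊗[A] A') a) ∈ nonZeroDivisors ((chartHom a c).range ⊗[A] A') := by
  let B := (chartHom a c).range
  let q := (chartHom a c).rangeRestrict
  have hq : Function.Surjective q := (chartHom a c).rangeRestrict_surjective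
  have hker : RingHom.ker q.toRingHom = Ideal.ofList (rel a c) :=
    (Ideal.ext fun x => ⟨fun h => congrArg Subtype.val h, fun h => Subtype.ext h⟩).trans (ker_chartHom a c H)
  let c' := fun j => algebraMap A A' (c j)
  let a' := algebraMap A A' a
  let J := Ideal.ofList (rel a' c')
  let M : MvPolynomial (Fin n) A →ₐ[A] MvPolynomial (Fin n) A' ⧸ J :=
    (Ideal.Quotient.mkₐ A J).comp (aeval fun j => X j)
  have hM : ∀ x ∈ RingHom.ker q.toRingHom, M x = 0 := by
    rw [hker]
    refine Submodule.span_le (p := RingHom.ker M.toRingHom).2 ?_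
    intro x hx
    obtain ⟨j, rfl⟩ := List.mem_ofFn.1 hx
    show Ideal.Quotient.mk J (aeval (fun i : Fin n => (X i : MvPolynomial (Fin n) A')) _) = 0
    rw [map_sub, map_mul, aeval_C, aeval_X, aeval_C, Ideal.Quotient.eq_zero_iff_mem,
      IsScalarTower.algebraMap_apply A A' (MvPolynomial (Fin n) A'), MvPolynomial.algebraMap_eq,
      IsScalarTower.algebraMap_apply A A' (MvPolynomial (Fin n) A'), MvPolynomial.algebraMap_eq]
    exact Ideal.subset_span (List.mem_ofFn.2 ⟨j, rfl⟩)
  let rB : B →ₐ[A] MvPolynomial (Fin n) A' ⧸ J :=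
    (Ideal.Quotient.liftₐ (RingHom.ker q.toRingHom) M hM).comp
      (Ideal.quotientKerAlgEquivOfSurjective hq).symm.toAlgHom
  have hrB : ∀ p, rB (q p) = M p := fun p => by
    show Ideal.Quotient.liftₐ _ M hM ((Ideal.quotientKerAlgEquivOfSurjective hq).symm (q p)) = M p
    rw [Ideal.quotientKerAlgEquivOfSurjective_symm_apply]
    rfl
  let R : B ⊗[A] A' →ₐ[A] MvPolynomial (Fin n) A' ⧸ J :=
    Algebra.TensorProduct.lift rB
      ((Ideal.Quotient.mkₐ A J).comp (IsScalarTower.toAlgHom A A' (MvPolynomial (Fin n) A'))) fun _ _ => Commute.all _ _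
  let Q : MvPolynomial (Fin n) A' →+* B ⊗[A] A' :=
    MvPolynomial.eval₂Hom (Algebra.TensorProduct.includeRight (R := A) (A := B)).toRingHom fun j => q (X j) ⊗ₜ 1
  have hRQ : ∀ p, R (Q p) = Ideal.Quotient.mk J p := by
    have h : R.toRingHom.comp Q = Ideal.Quotient.mk J := by
      refine MvPolynomial.ringHom_ext (fun r => ?_) (fun j => ?_)
      · show R (Q (C r)) = _
        simp only [Q, eval₂Hom_C]
        show R (1 ⊗ₜ r) = _
        rw [Algebra.TensorProduct.lift_tmul, map_one, one_mul]
        rfl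
      · show R (Q (X j)) = _
        simp only [Q, eval₂Hom_X']
        rw [Algebra.TensorProduct.lift_tmul, map_one, mul_one, hrB]
        show Ideal.Quotient.mk J (aeval (fun i : Fin n => (X i : MvPolynomial (Fin n) A')) (X j)) = _
        rw [aeval_X]
    exact fun p => DFunLike.congr_fun h p
  have hQs : Function.Surjective Q := by
    intro z
    induction z using TensorProduct.induction_on with
    | zero => exact ⟨0, map_zero Q⟩
    | add z w hz hw =>
      obtain ⟨u, rfl⟩ := hz
      obtain ⟨v, rfl⟩ := hw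
      exact ⟨u + v, map_add Q u v⟩
    | tmul b r =>
      obtain ⟨p, rfl⟩ := hq b
      refine ⟨MvPolynomial.map (algebraMap A A') p * C r, ?_⟩
      have hp : ∀ p, Q (MvPolynomial.map (algebraMap A A') p) = q p ⊗ₜ 1 := by
        intro p
        induction p using MvPolynomial.induction_on with
        | C s =>
          rw [map_C]
          simp only [Q, eval₂Hom_C]
          show 1 ⊗ₜ algebraMap A A' s = _
          rw [show q (C s) = algebraMap A B s from q.commutes s, Algebra.algebraMap_eq_smul_one,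
            Algebra.algebraMap_eq_smul_one, TensorProduct.smul_tmul]
        | add u v hu hv => rw [map_add, map_add, hu, hv, map_add, TensorProduct.add_tmul]
        | mul_X u j hu =>
          rw [map_mul, map_mul, hu, map_X, map_mul]
          simp only [Q, eval₂Hom_X']
          rw [Algebra.TensorProduct.tmul_mul_tmul, one_mul]
      rw [map_mul, hp]
      simp only [Q, eval₂Hom_C]
      show (q p ⊗ₜ 1) * (1 ⊗ₜ r) = _
      rw [Algebra.TensorProduct.tmul_mul_tmul, mul_one, one_mul]
  have hQJ : ∀ p ∈ J, Q p = 0 := by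
    intro p hp
    refine (Submodule.span_le (p := RingHom.ker Q).2 ?_) hp
    intro x hx
    obtain ⟨j, rfl⟩ := List.mem_ofFn.1 hx
    show Q (C a' * X j - C (c' j)) = 0
    simp only [Q, map_sub, map_mul, eval₂Hom_C, eval₂Hom_X']
    show (1 ⊗ₜ algebraMap A A' a) * (q (X j) ⊗ₜ 1) - 1 ⊗ₜ algebraMap A A' (c j) = 0
    rw [Algebra.algebraMap_eq_smul_one, Algebra.algebraMap_eq_smul_one, ← TensorProduct.smul_tmul,
      ← TensorProduct.smul_tmul, Algebra.TensorProduct.tmul_mul_tmul, one_mul, ← TensorProduct.sub_tmul]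
    have h0 : q (C a * X j - C (c j)) = 0 := by
      have : C a * X j - C (c j) ∈ RingHom.ker q.toRingHom := by
        rw [hker]; exact Ideal.subset_span (List.mem_ofFn.2 ⟨j, rfl⟩)
      exact this
    rw [map_sub, map_mul, ← MvPolynomial.algebraMap_eq, q.commutes, q.commutes, ← Algebra.smul_def,
      Algebra.algebraMap_eq_smul_one] at h0
    rw [smul_one_mul, h0, TensorProduct.zero_tmul]
  refine mem_nonZeroDivisors_iff_right.2 fun z hz => ?_
  obtain ⟨p, rfl⟩ := hQs z
  have ha : algebraMap A (B ⊗[A] A') a = Q (C a') := by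
    simp only [Q, eval₂Hom_C]
    exact ((Algebra.TensorProduct.includeRight (R := A) (A := B) (B := A')).commutes a).symm
  rw [ha, ← map_mul] at hz
  have h1 : p * C a' ∈ J := Ideal.Quotient.eq_zero_iff_mem.1 (by rw [← hRQ, hz, map_zero])
  rw [mul_comm] at h1
  exact hQJ _ (mem_of_mul_mem (reg_cons_rel a' c' H') h1)

/-- Tor-independent base change of a blow-up in a Koszul-regular ideal is a blow-up. -/
theorem isBlowUp_baseChange {X X' B : Scheme.{u}} (𝓘 : X.IdealSheafData)
    (h𝓘 : RegImm.IsRegularIdeal .koszul 𝓘) (g : X' ⟶ X)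
    (hg : ∀ (U : X.affineOpens) (rs : List Γ(X, U.1)), LCI.IsKoszulRegularSeq Γ(X, U.1) rs →
      𝓘.ideal U = Ideal.ofList rs → ∀ (V : X'.affineOpens) (e : V.1 ≤ g ⁻¹ᵁ U.1),
        LCI.IsKoszulRegularSeq Γ(X', V.1) (rs.map fun r => (g.appLE U.1 V.1 e).hom r))
    (b : B ⟶ X) (hb : BlowUp.IsBlowUp b 𝓘) :
    BlowUp.IsBlowUp (pullback.snd b g) (𝓘.comap g) := by
  refine ⟨?_, fun Y h hY => ?_⟩
  · intro z
    obtain ⟨U, hxU, rs, hrs, hI⟩ := exists_affine_reg_ideal h𝓘 (g (pullback.snd b g z))
    obtain ⟨_, ⟨V, hV, rfl⟩, hzV, hVU⟩ := X'.isBasis_affineOpens.exists_subset_of_mem_open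
      (show pullback.snd b g z ∈ (g ⁻¹ᵁ U.1 : Set X') from hxU) (g ⁻¹ᵁ U.1).isOpen
    have hzb : b (pullback.fst b g z) ∈ U.1 := by
      have : (pullback.fst b g ≫ b) z = (pullback.snd b g ≫ g) z := by rw [pullback.condition]
      rw [Scheme.Hom.comp_apply, Scheme.Hom.comp_apply] at this
      rwa [this]
    obtain ⟨a, ha, m, hm, hzm, hmb⟩ := exists_chart hb U rs hI (pullback.fst b g z) hzb
    let A : CommRingCat.{u} := Γ(X, U.1)
    let A' : CommRingCat.{u} := Γ(X', V)
    letI : Algebra A A' := (g.appLE U.1 V hVU).hom.toAlgebra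
    obtain ⟨pre, post, hsplit⟩ := List.append_of_mem ha
    have hperm : rs.Perm ((a : A) :: List.ofFn (pre ++ post).get) := by
      rw [List.ofFn_get]
      exact (List.Perm.of_eq hsplit).trans List.perm_middle
    have halg : (chartHom (a : A) (pre ++ post).get).range = Alg (Ideal.ofList rs) a := by
      rw [range_chartHom, ← H17.RegDescent.ofList_perm hperm]
      rfl
    have hnzd := baseChange_nonZeroDivisor (A' := A') (a : A) (pre ++ post).get
      (kEq_reg (kEq_of_perm hperm) hrs) (by
        have h1 := (reg_iff _).2 (hg U rs ((reg_iff _).1 hrs) hI ⟨V, hV⟩ hVU)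
        have h2 := kEq_reg (kEq_of_perm (hperm.map _)) h1
        rw [List.map_cons, List.map_ofFn] at h2
        exact h2)
    rw [halg] at hnzd
    let S : CommRingCat.{u} := CommRingCat.of (↥(Alg (Ideal.ofList rs) a) ⊗[A] A')
    let p1 := Spec.map (CommRingCat.ofHom (algebraMap A (Alg (Ideal.ofList rs) a)))
    let p2 := Spec.map (CommRingCat.ofHom (algebraMap A A'))
    have hp2 : hV.fromSpec ≫ g = p2 ≫ U.2.fromSpec :=
      (U.2.SpecMap_appLE_fromSpec g hV hVU).symm
    haveI := hm
    let mm : Spec S ⟶ pullback b g := (pullbackSpecIso A (Alg (Ideal.ofList rs) a) A').inv ≫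
      pullback.map p1 p2 b g m hV.fromSpec U.2.fromSpec hmb.symm hp2.symm
    haveI : IsOpenImmersion mm := inferInstance
    have hzmm : z ∈ Set.range mm := by
      have hsurj : Function.Surjective (pullbackSpecIso A (Alg (Ideal.ofList rs) a) A').inv :=
        (Scheme.homeoOfIso (pullbackSpecIso A (Alg (Ideal.ofList rs) a) A').symm).surjective
      rw [show mm = (pullbackSpecIso A (Alg (Ideal.ofList rs) a) A').inv ≫ _ from rfl, Scheme.Hom.comp_base,
        TopCat.coe_comp, hsurj.range_comp, Scheme.Pullback.range_map]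
      refine ⟨hzm, ?_⟩
      rw [hV.range_fromSpec]
      exact hzV
    have hmmg : mm ≫ pullback.snd b g ≫ g =
        Spec.map (CommRingCat.ofHom (algebraMap A S)) ≫ U.2.fromSpec := by
      simp only [mm, Category.assoc, pullback.lift_snd_assoc, pullback.map]
      rw [hp2, ← pullback.condition_assoc, pullbackSpecIso_inv_fst_assoc, ← Spec.map_comp_assoc]
      rfl
    have hgen : ((𝓘.comap g).comap (pullback.snd b g)).comap mm =
        (centre (Ideal.ofList rs)).comap (Spec.map (CommRingCat.ofHom (algebraMap A S))) := by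
      rw [← Scheme.IdealSheafData.comap_comp, ← Scheme.IdealSheafData.comap_comp, Category.assoc, hmmg,
        Scheme.IdealSheafData.comap_comp, comap_fromSpec 𝓘 U rs hI]
    obtain ⟨w, rfl⟩ := hzmm
    have heff : BlowUp.IsEffCartierIdeal (((𝓘.comap g).comap (pullback.snd b g)).comap mm) := by
      rw [hgen]
      intro x
      refine ⟨⟨⊤, isAffineOpen_top _⟩, trivial, (Scheme.ΓSpecIso S).inv.hom (algebraMap A S (a : A)), ?_, ?_⟩
      · refine mem_nonZeroDivisors_iff_right.2 fun y hy => ?_
        obtain ⟨y', rfl⟩ := (ConcreteCategory.bijective_of_isIso (Scheme.ΓSpecIso S).inv).2 y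
        rw [← map_mul] at hy
        rw [mem_nonZeroDivisors_iff_right.1 hnzd y'
          ((ConcreteCategory.bijective_of_isIso (Scheme.ΓSpecIso S).inv).1 (hy.trans (map_zero _).symm))]
        exact map_zero _
      · rw [ideal_centre_comap, CommRingCat.hom_ofHom]
        have hs : (Ideal.ofList rs).map (algebraMap A S) = Ideal.span {algebraMap A S (a : A)} := by
          rw [IsScalarTower.algebraMap_eq A (Alg (Ideal.ofList rs) a) S, ← Ideal.map_map, map_eq_span,
            Ideal.map_span, Set.image_singleton]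
          rfl
        rw [hs, Ideal.map_span, Set.image_singleton]
    obtain ⟨W, hwW, e, he, heW⟩ := heff w
    let ei := (mm.appIso W.1).commRingCatIsoToRingEquiv
    refine ⟨⟨_, W.2.image_of_isOpenImmersion mm⟩, ⟨w, hwW, rfl⟩, ei.symm e, ?_, ?_⟩
    · rw [mem_nonZeroDivisors_iff_right]
      intro s hs
      refine ei.injective ((mem_nonZeroDivisors_iff_right.1 he _ ?_).trans (map_zero ei).symm)
      rw [← ei.apply_symm_apply e, ← map_mul, hs, map_zero]
    · rw [Scheme.IdealSheafData.ideal_comap_of_isOpenImmersion] at heW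
      refine Ideal.comap_injective_of_surjective _ (ConcreteCategory.bijective_of_isIso (mm.appIso W).inv).2 ?_
      rw [heW]
      change _ = Ideal.comap ei.symm (Ideal.span {ei.symm e})
      rw [Ideal.comap_symm, Ideal.map_span, Set.image_singleton, ei.apply_symm_apply]
  · rw [← Scheme.IdealSheafData.comap_comp] at hY
    obtain ⟨k, hk, hk'⟩ := hb.2 Y (h ≫ g) hY
    refine ⟨pullback.lift k h hk, pullback.lift_snd _ _ _, fun m hm => ?_⟩
    apply pullback.hom_ext
    · rw [pullback.lift_fst]
      exact hk' _ (by simp only [Category.assoc, pullback.condition, reassoc_of% hm])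
    · rw [hm, pullback.lift_snd]

end Groth.Agent.H7Blow
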