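import Groth.Agent.H7Blow.ChartRegular
import Groth.Agent.H26Blow.Exists
import Groth.Agent.H8Props.PseudoCoh.PerfectMor
import Groth.Prelude.Def_Mor2

/-!
# The blow-up along a regular immersion is a perfect morphism
-/

set_option autoImplicit false
set_option linter.style.haveILetI false
universe u

open CategoryTheory Limits AlgebraicGeometry TopologicalSpace Polynomial
open Groth.Agent.H16Derived.KoszulPow Groth.Agent.H26Blow

namespace Groth.Agent.H7Blow

/-- The charts at generators cover `Proj` of the Rees algebra. -/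
theorem exists_gen_mem_basicOpen {A : Type u} [CommRing A] (I : Ideal A) (rs : List A)
    (hI : I = Ideal.ofList rs) (x : Proj (gr I)) :
    ∃ a : I, (a : A) ∈ rs ∧ x ∈ Proj.basicOpen (gr I) (T I a) := by
  obtain ⟨b, hb⟩ := Opens.mem_iSup.1 ((iSup_basicOpen I).ge (Set.mem_univ x))
  rw [Proj.mem_basicOpen] at hb
  by_contra! hall
  have key : ∀ c : A, ∀ hc : c ∈ Ideal.ofList rs, T I ⟨c, hI ▸ hc⟩ ∈ x.asHomogeneousIdeal := by
    intro c hc
    refine Submodule.span_induction (p := fun c hc => T I ⟨c, hI ▸ hc⟩ ∈ x.asHomogeneousIdeal) ?_ ?_ ?_ ?_ hc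
    · intro c hc
      have := hall ⟨c, hI ▸ Ideal.subset_span hc⟩ hc
      rwa [Proj.mem_basicOpen, not_not] at this
    · rw [show T I ⟨0, _⟩ = (0 : reesAlgebra I) from Subtype.ext (monomial_zero_right 1)]
      exact zero_mem _
    · intro c d hc' hd' hc hd
      rw [show T I ⟨c + d, _⟩ = T I ⟨c, hI ▸ hc'⟩ + T I ⟨d, hI ▸ hd'⟩ from
        Subtype.ext (map_add (monomial 1) c d)]
      exact add_mem hc hd
    · intro r c hc' hc
      rw [show T I ⟨r • c, _⟩ = algebraMap A (reesAlgebra I) r * T I ⟨c, hI ▸ hc'⟩ from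
        Subtype.ext C_mul_monomial.symm]
      exact Ideal.mul_mem_left x.asHomogeneousIdeal.toIdeal _ hc
  exact hb (key b (hI ▸ b.2))

/-- Near every point of a scheme the centre is generated by a Koszul-regular sequence. -/
theorem exists_affine_reg {Y X : Scheme.{u}} (i : Y ⟶ X) (hi : Mor2.IsRegularClosedImmersion i) (x : X) :
    ∃ (U : X.Opens) (hU : IsAffineOpen U), x ∈ U ∧
      ∃ rs : List Γ(X, U), Reg rs ∧ i.ker.ideal ⟨U, hU⟩ = Ideal.ofList rs := by
  obtain ⟨hcl, hloc⟩ := hi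
  haveI := hcl
  by_cases hx : x ∈ Set.range i
  · obtain ⟨z, rfl⟩ := hx
    obtain ⟨U, hU, hzU, rs, hrs, hker⟩ := hloc z
    exact ⟨U, hU, hzU, rs, (reg_iff _).2 (H29Slice.isKoszulRegular_of_isWeaklyRegular hrs.toIsWeaklyRegular), hker⟩
  · have hopen : IsOpen (Set.range i)ᶜ := (Scheme.Hom.isClosedEmbedding i).isClosed_range.isOpen_compl
    obtain ⟨U, hU, hxU, hUle⟩ := exists_isAffineOpen_mem_and_subset (U := ⟨_, hopen⟩) (x := x) hx
    refine ⟨U, hU, hxU, [1], (reg_iff _).2 (H29Slice.isKoszulRegular_of_isWeaklyRegular ?_), ?_⟩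
    · exact (RingTheory.Sequence.isWeaklyRegular_cons_iff _ _ _).2
        ⟨IsSMulRegular.one _, RingTheory.Sequence.IsWeaklyRegular.nil _ _⟩
    · rw [Ideal.ofList_singleton, Ideal.span_singleton_one]
      by_contra hne
      obtain ⟨m, hm, hle⟩ := Ideal.exists_le_maximal _ hne
      have h1 : hU.fromSpec ⟨m, hm.isPrime⟩ ∈ (i.ker.support : Set X) ∩ U := by
        rw [Scheme.IdealSheafData.coe_support_inter i.ker ⟨U, hU⟩, ← hU.fromSpec_image_zeroLocus]
        exact ⟨_, hle, rfl⟩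
      rw [Scheme.Hom.support_ker] at h1
      exact hUle h1.2 ((Scheme.Hom.isClosedEmbedding i).isClosed_range.closure_eq ▸ h1.1)

/-- Blow-ups are transported along isomorphisms over the base. -/
theorem isBlowUp_iso_comp {X X' X'' : Scheme.{u}} {b : X' ⟶ X} {J : X.IdealSheafData}
    (hb : BlowUp.IsBlowUp b J) (e : X'' ≅ X') : BlowUp.IsBlowUp (e.hom ≫ b) J := by
  refine ⟨?_, fun Z g hg => ?_⟩
  · rw [Scheme.IdealSheafData.comap_comp]
    exact H29Blow.isEffCartierIdeal_comap_of_flat hb.1 _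
  · obtain ⟨h, hh, hu⟩ := hb.2 Z g hg
    refine ⟨h ≫ e.inv, by simp [hh], fun h' hh' => ?_⟩
    rw [← hu (h' ≫ e.hom) (by simpa using hh'), Category.assoc, e.hom_inv_id, Category.comp_id]

/-- A blow-up of an affine scheme in a Koszul-regular sequence is perfect. -/
theorem isPerfectMor_of_isBlowUp_affine {A : Type u} [CommRing A] (rs : List A) (H : Reg rs) {X' : Scheme.{u}}
    (b : X' ⟶ Spec (CommRingCat.of A)) (hb : BlowUp.IsBlowUp b (centre (Ideal.ofList rs))) :
    MoreMor.IsPerfectMor b := by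
  generalize hIdef : Ideal.ofList rs = I at hb
  obtain ⟨Φ, hΦ⟩ := exists_iso_of_isBlowUp hb (isBlowUp_π I)
  let 𝒰 : X'.OpenCover :=
    { I₀ := {a : I // (a : A) ∈ rs}
      X := fun a => Spec (CommRingCat.of (Alg I a.1))
      f := fun a => j I a.1 ≫ Φ.inv
      mem₀ := by
        rw [Scheme.presieve₀_mem_precoverage_iff]
        refine ⟨fun x => ?_, fun a => inferInstance⟩
        obtain ⟨a, ha, hxa⟩ := exists_gen_mem_basicOpen I rs hIdef.symm (Φ.hom x)
        rw [← opensRange_j] at hxa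
        obtain ⟨w, hw⟩ := hxa
        refine ⟨⟨a, ha⟩, w, ?_⟩
        show Φ.inv (j I a w) = x
        rw [hw]
        show (Φ.hom ≫ Φ.inv) x = x
        rw [Φ.hom_inv_id]
        rfl }
  rw [IsZariskiLocalAtSource.iff_of_openCover (P := @MoreMor.IsPerfectMor) 𝒰]
  rintro ⟨a, ha⟩
  show MoreMor.IsPerfectMor ((j I a ≫ Φ.inv) ≫ b)
  rw [Category.assoc]
  rw [show j I a ≫ Φ.inv ≫ b = Spec.map (CommRingCat.ofHom (algebraMap A (Alg I a))) by
    rw [← j_π, ← hΦ, Iso.inv_hom_id_assoc]]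
  rw [HasRingHomProperty.Spec_iff (P := @MoreMor.IsPerfectMor)]
  show Groth.Agent.H8Props.PseudoCoh.PerfRing (algebraMap A (Alg I a))
  unfold Groth.Agent.H8Props.PseudoCoh.PerfRing
  rw [toAlgebra_algebraMap]
  obtain ⟨pre, post, hsplit⟩ := List.append_of_mem ha
  subst hIdef
  have hperm : rs.Perm ((a : A) :: List.ofFn (pre ++ post).get) := by
    rw [List.ofFn_get]
    exact (List.Perm.of_eq hsplit).trans List.perm_middle
  have key : (chartHom (a : A) (pre ++ post).get).range = Alg (Ideal.ofList rs) a := by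
    rw [range_chartHom, ← Groth.Agent.H17.RegDescent.ofList_perm hperm]
    rfl
  exact key ▸ isPerfectHom_chart (a : A) _ (kEq_reg (kEq_of_perm hperm) H)

/-- The inverse image of an ideal sheaf on the spectrum of an affine open. -/
theorem comap_fromSpec {X : Scheme.{u}} (𝓘 : X.IdealSheafData) (U : X.affineOpens) (rs : List Γ(X, U.1))
    (hker : 𝓘.ideal U = Ideal.ofList rs) : 𝓘.comap U.2.fromSpec = centre (Ideal.ofList rs) := by
  obtain ⟨U, hU⟩ := U
  dsimp only at rs hker ⊢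
  refine Scheme.IdealSheafData.ext_of_isAffine ?_
  rw [H29Blow.ideal_comap 𝓘 hU.fromSpec ⟨U, hU⟩ ⟨⊤, isAffineOpen_top _⟩
    hU.fromSpec_preimage_self.ge]
  refine Eq.trans ?_ (ideal_centre_top (A := Γ(X, U)) (Ideal.ofList rs)).symm
  rw [hker]
  congr 2
  rw [Scheme.Hom.appLE, IsAffineOpen.fromSpec_app_self, Category.assoc, ← Functor.map_comp]
  exact (congrArg ((Scheme.ΓSpecIso Γ(X, U)).inv ≫ ·) ((congrArg _ (Subsingleton.elim _ (𝟙 _))).trans
    ((Spec Γ(X, U)).presheaf.map_id _))).trans (Category.comp_id _)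

/-- The restriction of a blow-up over an affine open, as a blow-up of a spectrum. -/
theorem isBlowUp_affine_restrict {X X' : Scheme.{u}} {f : X' ⟶ X} {𝓘 : X.IdealSheafData}
    (hf : BlowUp.IsBlowUp f 𝓘) (U : X.affineOpens) (rs : List Γ(X, U.1)) (hker : 𝓘.ideal U = Ideal.ofList rs) :
    BlowUp.IsBlowUp (f ∣_ U.1 ≫ U.2.isoSpec.hom) (centre (Ideal.ofList rs)) := by
  obtain ⟨U, hU⟩ := U
  dsimp only at rs hker ⊢
  have hb0 : BlowUp.IsBlowUp (pullback.fst U.ι f) (𝓘.comap U.ι) :=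
    Groth.Agent.S1680.result U.ι 𝓘 f hf
  let e := (isPullback_morphismRestrict f U).isoPullback
  have hb1 := isBlowUp_iso_comp hb0 e
  rw [IsPullback.isoPullback_hom_fst] at hb1
  have hb2 := isBlowUp_comp_iso hb1 hU.isoSpec.symm
  rw [← Scheme.IdealSheafData.comap_comp] at hb2
  change BlowUp.IsBlowUp (f ∣_ U ≫ hU.isoSpec.hom) (𝓘.comap hU.fromSpec) at hb2
  rw [comap_fromSpec 𝓘 ⟨U, hU⟩ rs hker] at hb2
  exact hb2

/-- A blow-up is covered, over an affine open with generators `rs` of the centre, by the charts at the entries. -/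
theorem exists_chart {X X' : Scheme.{u}} {f : X' ⟶ X} {𝓘 : X.IdealSheafData} (hf : BlowUp.IsBlowUp f 𝓘)
    (U : X.affineOpens) (rs : List Γ(X, U.1)) (hker : 𝓘.ideal U = Ideal.ofList rs) (z : X') (hz : f z ∈ U.1) :
    ∃ (a : Ideal.ofList rs) (_ : (a : Γ(X, U.1)) ∈ rs)
      (m : Spec (CommRingCat.of (Alg (Ideal.ofList rs) a)) ⟶ X'),
      IsOpenImmersion m ∧ z ∈ Set.range m ∧
        m ≫ f = Spec.map (CommRingCat.ofHom (algebraMap Γ(X, U.1) (Alg (Ideal.ofList rs) a))) ≫ U.2.fromSpec := by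
  obtain ⟨Φ, hΦ⟩ := exists_iso_of_isBlowUp (isBlowUp_affine_restrict hf U rs hker)
    (isBlowUp_π (Ideal.ofList rs))
  obtain ⟨a, ha, hxa⟩ := exists_gen_mem_basicOpen _ rs rfl (Φ.hom ⟨z, hz⟩)
  rw [← opensRange_j] at hxa
  obtain ⟨w, hw⟩ := hxa
  refine ⟨a, ha, j _ a ≫ Φ.inv ≫ (f ⁻¹ᵁ U.1).ι, inferInstance, ⟨w, ?_⟩, ?_⟩
  · show (f ⁻¹ᵁ U.1).ι (Φ.inv (j _ a w)) = z
    rw [hw]
    show (f ⁻¹ᵁ U.1).ι ((Φ.hom ≫ Φ.inv) ⟨z, hz⟩) = z
    rw [Φ.hom_inv_id]
    rfl
  · rw [← j_π, Category.assoc, Category.assoc, Category.assoc, ← morphismRestrict_ι]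
    have h := congrArg (Φ.inv ≫ ·) hΦ
    simp only [Iso.inv_hom_id_assoc] at h
    rw [h, Category.assoc, Category.assoc, U.2.isoSpec_hom_fromSpec]

/-- The blow-up along a regular closed immersion is perfect. -/
theorem isPerfectMor_of_isBlowUp {Y X X' : Scheme.{u}} (i : Y ⟶ X) (hi : Mor2.IsRegularClosedImmersion i)
    (f : X' ⟶ X) (hf : BlowUp.IsBlowUp f i.ker) : MoreMor.IsPerfectMor f := by
  choose U hU hxU rs hrs hker using exists_affine_reg i hi
  rw [IsZariskiLocalAtTarget.iff_of_iSup_eq_top (P := @MoreMor.IsPerfectMor) U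
    (top_le_iff.1 fun x _ => Opens.mem_iSup.2 ⟨x, hxU x⟩)]
  intro x
  have hb2 := isBlowUp_affine_restrict hf ⟨U x, hU x⟩ (rs x) (hker x)
  have h := isPerfectMor_of_isBlowUp_affine (rs x) (hrs x) (f ∣_ U x ≫ (hU x).isoSpec.hom) hb2
  exact (MorphismProperty.cancel_right_of_respectsIso (P := @MoreMor.IsPerfectMor) _ _).1 h

end Groth.Agent.H7Blow
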