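import Groth.Agent.H17.RegDescent.Seq
import Groth.Agent.H29Slice.SmoothSection
import Groth.Agent.H8Props.PseudoCoh.Koszul
import Mathlib.RingTheory.MvPolynomial.Localization

/-!
# Charts of the blow-up of a Koszul-regular ideal

For a Koszul-regular sequence `a :: l` in `A`, the chart `A[I/a]` is the quotient of a polynomial ring by
the Koszul-regular sequence `a X_j - l_j`.
-/

set_option autoImplicit false
set_option linter.style.haveILetI false
universe u

open CategoryTheory TensorProduct MvPolynomial
open Groth.Agent.H8Props.PseudoCoh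
open Groth.Agent.H16Derived.KoszulPow

namespace Groth.Agent.H7Blow

open Groth.Agent.H17

variable {A : Type u} [CommRing A]

/-- Replacing tail entries by unit multiples plus combinations of a fixed prefix. -/
theorem reg_subst (hd : List A) : ∀ {l m : List A} (pre : List A),
    List.Forall₂ (fun f g => ∃ v : A, IsUnit v ∧ g - v * f ∈ Ideal.ofList hd) l m →
      Reg (hd ++ (pre ++ l)) → Reg (hd ++ (pre ++ m)) := by
  intro l m pre h
  induction h generalizing pre with
  | nil => exact id
  | @cons f g l m hfg _ ih =>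
    intro H
    obtain ⟨v, hv, hy⟩ := hfg
    have p1 : ∀ (x : A) (t : List A), (hd ++ (pre ++ x :: t)).Perm (x :: (hd ++ (pre ++ t))) := fun x t =>
      (List.Perm.append_left hd List.perm_middle).trans List.perm_middle
    have h1 : Reg (f :: (hd ++ (pre ++ l))) := kEq_reg (kEq_of_perm (p1 f l)) H
    have h2 := RegDescent.reg_head v hv f (g - v * f) (hd ++ (pre ++ l))
      (Ideal.span_mono (fun b hb => List.mem_append_left _ hb) hy) h1
    rw [add_sub_cancel] at h2
    have h3 := kEq_reg (kEq_of_perm (p1 g l).symm) h2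
    simpa using ih (pre ++ [g]) (by simpa using h3)

/-- Multiplication by `a` reflects boundaries in negative degrees and in degree `0` if `a :: g` is
Koszul-regular. -/
theorem mem_range_of_smul {a : A} {g : List A} (H : Reg (a :: g)) (h i j : ℤ) (hh : h + 1 = i)
    (hj : i + 1 = j) (hi : i ≤ 0) (x : (Koszul.koszul A g).X i) (hx : (Koszul.koszul A g).d i j x = 0)
    (hax : a • x ∈ LinearMap.range ((Koszul.koszul A g).d h i).hom) :
    x ∈ LinearMap.range ((Koszul.koszul A g).d h i).hom := by
  obtain ⟨w, hw⟩ := hax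
  replace hw : (Koszul.koszul A g).d h i w = a • x := hw
  let eg := coneXEquiv (a • 𝟙 (Koszul.koszul A g)) (h - 1) h (by omega)
  let eh := coneXEquiv (a • 𝟙 (Koszul.koszul A g)) h i hh
  let ei := coneXEquiv (a • 𝟙 (Koszul.koszul A g)) i j hj
  have hd := H29Slice.koszul_cons_d a g h i j hh hj (eh.symm (x, -w))
  change ei ((Koszul.koszul A (a :: g)).d h i (eh.symm (x, -w))) =
    (-((Koszul.koszul A g).d i j (eh (eh.symm (x, -w))).1),
      a • (eh (eh.symm (x, -w))).1 + (Koszul.koszul A g).d h i (eh (eh.symm (x, -w))).2) at hd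
  rw [eh.apply_symm_apply, hx, neg_zero, map_neg, hw, add_neg_cancel] at hd
  obtain ⟨z, hz⟩ := H (h - 1) h i (by omega) hh (by omega) (eh.symm (x, -w))
    (ei.injective (hd.trans (map_zero ei).symm))
  have hd' := H29Slice.koszul_cons_d a g (h - 1) h i (by omega) hh z
  rw [hz] at hd'
  change eh (eh.symm (x, -w)) = _ at hd'
  rw [eh.apply_symm_apply] at hd'
  refine ⟨-(eg z).1, ?_⟩
  show (Koszul.koszul A g).d h i (-(eg z).1) = x
  rw [map_neg]
  exact (congrArg Prod.fst hd').symm

/-- If `a :: g` is Koszul-regular and `g` is so after inverting `a`, then `g` is Koszul-regular. -/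
theorem reg_of_cons (L : Type u) [CommRing L] [Algebra A L] {a : A} [IsLocalization.Away a L] {g : List A}
    (H : Reg (a :: g)) (HL : Reg (g.map (algebraMap A L))) : Reg g := by
  intro h i j hh hj hi x hx
  by_cases hpos : 0 < i
  · haveI := ModuleCat.subsingleton_of_isZero (koszul_isZero g i (Or.inr hpos))
    exact ⟨0, Subsingleton.elim _ _⟩
  obtain ⟨e, he⟩ := H17.KoszulBC.exists_equiv L g
  obtain ⟨w, hw⟩ := HL h i j hh hj hi (e i ((1 : L) ⊗ₜ[A] x)) (by
    rw [he i j hj, LinearMap.baseChange_tmul]
    erw [hx]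
    rw [TensorProduct.tmul_zero, map_zero])
  obtain ⟨z, rfl⟩ := (e h).surjective w
  rw [he h i hh] at hw
  have hw' := (e i).injective hw
  obtain ⟨⟨z0, s⟩, hz⟩ := IsLocalizedModule.surj (Submonoid.powers a)
    (TensorProduct.mk A L ((Koszul.koszul A g).X h) 1) z
  have h2 : TensorProduct.mk A L ((Koszul.koszul A g).X i) 1 ((Koszul.koszul A g).d h i z0) =
      TensorProduct.mk A L ((Koszul.koszul A g).X i) 1 ((s : A) • x) := by
    have h3 := congrArg (((Koszul.koszul A g).d h i).hom.baseChange L) hz
    rw [show (s • z : L ⊗[A] _) = (s : A) • z from rfl, ← algebraMap_smul L (s : A) z, map_smul, hw',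
      algebraMap_smul] at h3
    rw [map_smul]
    exact h3.symm
  obtain ⟨s', hs'⟩ := IsLocalizedModule.exists_of_eq (S := Submonoid.powers a) h2
  obtain ⟨k, hk⟩ := (s' * s).2
  have hmem : a ^ k • x ∈ LinearMap.range ((Koszul.koszul A g).d h i).hom := by
    refine ⟨(s' : A) • z0, ?_⟩
    show (Koszul.koszul A g).d h i ((s' : A) • z0) = _
    rw [map_smul, show a ^ k = ((s' : A) * s) from hk, mul_smul]
    exact hs'
  have key : ∀ n : ℕ, ∀ y : (Koszul.koszul A g).X i, (Koszul.koszul A g).d i j y = 0 →
      a ^ n • y ∈ LinearMap.range ((Koszul.koszul A g).d h i).hom →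
      y ∈ LinearMap.range ((Koszul.koszul A g).d h i).hom := by
    intro n
    induction n with
    | zero => intro y _ hy; simpa using hy
    | succ n ih =>
      intro y hy hy'
      refine ih y hy (mem_range_of_smul H h i j hh hj (not_lt.1 hpos) _ ?_ ?_)
      · rw [map_smul, hy, smul_zero]
      · rwa [smul_smul, ← pow_succ']
  obtain ⟨w', hw''⟩ := key k x hx hmem
  exact ⟨w', hw''⟩

/-- If `a :: g` is Koszul-regular then `a` is a non-zero-divisor modulo `g`. -/
theorem mem_of_mul_mem {a : A} {g : List A} (H : Reg (a :: g)) {z : A} (hz : a * z ∈ Ideal.ofList g) :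
    z ∈ Ideal.ofList g := by
  obtain ⟨ε, hε⟩ := koszul_zero g
  rw [← hε] at hz
  obtain ⟨w, hw, hwε⟩ := hz
  have h1 : ε.symm z ∈ LinearMap.range ((Koszul.koszul A g).d (-1) 0).hom := by
    refine mem_range_of_smul H (-1) 0 1 (by omega) (by omega) le_rfl _ ?_ ?_
    · haveI := ModuleCat.subsingleton_of_isZero (koszul_isZero g 1 (Or.inr one_pos))
      exact Subsingleton.elim _ _
    · rw [← map_smul, smul_eq_mul]
      have : w = ε.symm (a * z) := ε.injective (hwε.trans (ε.apply_symm_apply _).symm)
      exact this ▸ hw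
  rw [← hε]
  exact ⟨_, h1, ε.apply_symm_apply z⟩

/-- Koszul-regularity is transported along a bijective ring map. -/
theorem reg_map_bijective {R S : Type u} [CommRing R] [CommRing S] (f : R →+* S) (hb : Function.Bijective f)
    {l : List R} (h : Reg l) : Reg (l.map f) := by
  letI := f.toAlgebra
  haveI : Module.Flat R S := RingHom.Flat.of_bijective (f := f) hb
  exact (reg_iff _).2 (H17.KoszulBC.isKoszulRegularSeq_map S ((reg_iff _).1 h))

/-- Translated variables are Koszul-regular. -/
theorem reg_X_sub_C {n : ℕ} (c : Fin n → A) :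
    Reg (List.ofFn fun j : Fin n => (X j - C (c j) : MvPolynomial (Fin n) A)) := by
  have h0 : Reg (List.ofFn fun j : Fin n => (X j : MvPolynomial (Fin n) A)) := by
    have h := H29Slice.isWeaklyRegular_X_append A n (RingTheory.Sequence.IsWeaklyRegular.nil A A)
    rw [List.map_nil, List.append_nil] at h
    exact (reg_iff _).2 (H29Slice.isKoszulRegular_of_isWeaklyRegular h)
  let φ : MvPolynomial (Fin n) A →ₐ[A] MvPolynomial (Fin n) A := aeval fun j => X j - C (c j)
  let ψ : MvPolynomial (Fin n) A →ₐ[A] MvPolynomial (Fin n) A := aeval fun j => X j + C (c j)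
  have e1 : φ.comp ψ = AlgHom.id A _ := MvPolynomial.algHom_ext fun j => by simp [φ, ψ]
  have e2 : ψ.comp φ = AlgHom.id A _ := MvPolynomial.algHom_ext fun j => by simp [φ, ψ]
  have h1 := reg_map_bijective φ.toRingHom (AlgEquiv.ofAlgHom φ ψ e1 e2).bijective h0
  rw [List.map_ofFn] at h1
  convert h1 using 3 with j
  show _ = φ (X j)
  simp [φ]

/-- The relations of the chart at the head. -/
noncomputable def rel {n : ℕ} (a : A) (c : Fin n → A) : List (MvPolynomial (Fin n) A) :=
  List.ofFn fun j => C a * X j - C (c j)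

theorem reg_cons_rel {n : ℕ} (a : A) (c : Fin n → A) (H : Reg (a :: List.ofFn c)) :
    Reg (C a :: rel a c) := by
  have h1 := (reg_iff _).2 (H17.KoszulBC.isKoszulRegularSeq_map (B := MvPolynomial (Fin n) A) ((reg_iff _).1 H))
  rw [List.map_cons, List.map_ofFn] at h1
  change Reg (([C a] : List (MvPolynomial (Fin n) A)) ++ ([] ++ List.ofFn fun j => C (c j))) at h1
  show Reg (([C a] : List (MvPolynomial (Fin n) A)) ++ ([] ++ rel a c))
  refine reg_subst [C a] [] ?_ h1
  rw [rel, List.forall₂_iff_get]
  refine ⟨by simp, fun i hi _ => ⟨-1, isUnit_one.neg, ?_⟩⟩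
  simp only [List.get_eq_getElem, List.getElem_ofFn, neg_mul, one_mul, sub_neg_eq_add, sub_add_cancel]
  exact Ideal.mul_mem_right _ _ (Ideal.subset_span (List.mem_cons_self (a := C a) (l := [])))

theorem reg_rel {n : ℕ} (a : A) (c : Fin n → A) (H : Reg (a :: List.ofFn c)) : Reg (rel a c) := by
  letI : Algebra (MvPolynomial (Fin n) A) (MvPolynomial (Fin n) (Localization.Away a)) :=
    (MvPolynomial.map (algebraMap A (Localization.Away a))).toAlgebra
  haveI hloc : IsLocalization.Away (C a : MvPolynomial (Fin n) A) (MvPolynomial (Fin n) (Localization.Away a)) := by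
    show IsLocalization (Submonoid.powers (C a)) _
    rw [← Submonoid.map_powers]
    exact MvPolynomial.isLocalization (Submonoid.powers a) (Localization.Away a)
  refine reg_of_cons (MvPolynomial (Fin n) (Localization.Away a)) (reg_cons_rel a c H) ?_
  obtain ⟨u, hu⟩ := IsLocalization.Away.algebraMap_isUnit (S := Localization.Away a) a
  have h0 := reg_X_sub_C fun j => (↑u⁻¹ : Localization.Away a) * algebraMap A _ (c j)
  have key := reg_subst (A := MvPolynomial (Fin n) (Localization.Away a)) []
    (m := (rel a c).map (algebraMap (MvPolynomial (Fin n) A) (MvPolynomial (Fin n) (Localization.Away a)))) []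
    ?_ (by simpa only [List.nil_append] using h0)
  · simpa only [List.nil_append] using key
  rw [List.forall₂_iff_get]
  refine ⟨by simp [rel], fun i hi _ => ⟨C (u : Localization.Away a), (u.isUnit.map C), ?_⟩⟩
  rw [Ideal.ofList_nil, Ideal.mem_bot, sub_eq_zero]
  simp only [rel, List.get_eq_getElem, List.getElem_map, List.getElem_ofFn]
  show MvPolynomial.map (algebraMap A (Localization.Away a)) _ = _
  rw [map_sub, map_mul, map_C, map_X, map_C, mul_sub, ← map_mul, ← mul_assoc, Units.mul_inv, one_mul, hu]

/-- The fraction map. -/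
noncomputable def chartHom {n : ℕ} (a : A) (c : Fin n → A) :
    MvPolynomial (Fin n) A →ₐ[A] Localization.Away a :=
  aeval fun j => IsLocalization.mk' (Localization.Away a) (c j) ⟨a, Submonoid.mem_powers a⟩

theorem ker_chartHom {n : ℕ} (a : A) (c : Fin n → A) (H : Reg (a :: List.ofFn c)) :
    RingHom.ker (chartHom a c).toRingHom = Ideal.ofList (rel a c) := by
  have hX : ∀ j, chartHom a c (C a * X j - C (c j)) = 0 := fun j => by
    simp [chartHom, IsLocalization.mk'_spec']
  refine le_antisymm (fun p hp => ?_) (Ideal.span_le.2 ?_)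
  · replace hp : chartHom a c p = 0 := hp
    have hclaim : ∀ q : MvPolynomial (Fin n) A, ∃ (N : ℕ) (b : A), C a ^ N * q - C b ∈ Ideal.ofList (rel a c) := by
      intro q
      induction q using MvPolynomial.induction_on with
      | C r => exact ⟨0, r, by simp⟩
      | add q₁ q₂ h₁ h₂ =>
        obtain ⟨N₁, b₁, h₁⟩ := h₁
        obtain ⟨N₂, b₂, h₂⟩ := h₂
        refine ⟨N₁ + N₂, a ^ N₂ * b₁ + a ^ N₁ * b₂, ?_⟩
        have := add_mem (Ideal.mul_mem_left _ (C a ^ N₂) h₁) (Ideal.mul_mem_left _ (C a ^ N₁) h₂)
        convert this using 1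
        simp only [map_add, map_mul, map_pow]
        ring
      | mul_X q j h =>
        obtain ⟨N, b, h⟩ := h
        refine ⟨N + 1, b * c j, ?_⟩
        have := add_mem (Ideal.mul_mem_left _ (C a * X j) h)
          (Ideal.mul_mem_left _ (C b) (Ideal.subset_span (show C a * X j - C (c j) ∈ rel a c from
            List.mem_ofFn.2 ⟨j, rfl⟩)))
        convert this using 1
        rw [map_mul]
        ring
    obtain ⟨N, b, hb⟩ := hclaim p
    have hb0 : algebraMap A (Localization.Away a) b = 0 := by
      have h1 : chartHom a c (C a ^ N * p - C b) = 0 := by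
        refine Submodule.span_induction ?_ (map_zero _) (fun x y _ _ hx hy => by rw [map_add, hx, hy, add_zero])
          (fun r x _ hx => by rw [smul_eq_mul, map_mul, hx, mul_zero]) hb
        intro x hx
        obtain ⟨j, rfl⟩ := List.mem_ofFn.1 hx
        exact hX j
      rw [map_sub, map_mul, hp, mul_zero, zero_sub, neg_eq_zero] at h1
      simpa [chartHom] using h1
    obtain ⟨⟨_, M, rfl⟩, hM⟩ := (IsLocalization.map_eq_zero_iff (Submonoid.powers a) _ b).1 hb0
    have hmem : C a ^ (M + N) * p ∈ Ideal.ofList (rel a c) := by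
      have := Ideal.mul_mem_left _ (C a ^ M) hb
      rwa [mul_sub, ← map_pow, ← map_mul, hM, map_zero, sub_zero, ← mul_assoc, ← map_pow, ← map_mul,
        ← pow_add, map_pow] at this
    have hR := reg_cons_rel a c H
    have hk : ∀ k : ℕ, C a ^ k * p ∈ Ideal.ofList (rel a c) → p ∈ Ideal.ofList (rel a c) := by
      intro k
      induction k with
      | zero => intro h; simpa using h
      | succ k ih => intro h; exact ih (mem_of_mul_mem hR (by rwa [← mul_assoc, ← pow_succ']))
    exact hk _ hmem
  · intro x hx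
    obtain ⟨j, rfl⟩ := List.mem_ofFn.1 hx
    exact hX j

theorem range_chartHom {n : ℕ} (a : A) (c : Fin n → A) :
    (chartHom a c).range = Algebra.adjoin A {q | ∃ x ∈ Ideal.ofList (a :: List.ofFn c),
      q = IsLocalization.mk' (Localization.Away a) x ⟨a, Submonoid.mem_powers a⟩} := by
  apply le_antisymm
  · rw [chartHom, ← Algebra.adjoin_range_eq_range_aeval]
    refine Algebra.adjoin_mono ?_
    rintro _ ⟨j, rfl⟩
    exact ⟨c j, Ideal.subset_span (List.mem_cons_of_mem _ (List.mem_ofFn.2 ⟨j, rfl⟩)), rfl⟩
  · refine Algebra.adjoin_le ?_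
    rintro _ ⟨x, hx, rfl⟩
    refine Submodule.span_induction (p := fun x _ => IsLocalization.mk' (Localization.Away a) x
      ⟨a, Submonoid.mem_powers a⟩ ∈ (chartHom a c).range) ?_ ?_ ?_ ?_ hx
    · intro x hx
      rcases List.mem_cons.1 hx with rfl | hx
      · rw [IsLocalization.mk'_self]; exact one_mem _
      · obtain ⟨j, rfl⟩ := List.mem_ofFn.1 hx
        exact ⟨X j, by simp [chartHom]⟩
    · rw [IsLocalization.mk'_zero]; exact zero_mem _
    · intro x y _ _ hx hy
      rw [IsLocalization.mk'_eq_mul_mk'_one] at hx hy ⊢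
      rw [map_add, add_mul]; exact add_mem hx hy
    · intro r x _ hx
      rw [smul_eq_mul, ← IsLocalization.smul_mk' (S := Localization.Away a)]
      exact Subalgebra.smul_mem _ hx r

/-- The chart of the blow-up at the head of a Koszul-regular sequence is a local complete intersection. -/
theorem isLCI_chart {n : ℕ} (a : A) (c : Fin n → A) (H : Reg (a :: List.ofFn c)) :
    LCI.IsLCI A (chartHom a c).range := by
  let q := (chartHom a c).rangeRestrict
  have hq : Function.Surjective q := (chartHom a c).rangeRestrict_surjective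
  refine ⟨Algebra.FiniteType.of_surjective q hq, n, q, hq, fun 𝔭 _ => ⟨1, ?_, ?_⟩⟩
  · exact fun h => 𝔭.isPrime.ne_top ((Ideal.eq_top_iff_one _).2 h)
  refine ⟨(rel a c).map (algebraMap _ _), H17.KoszulBC.isKoszulRegularSeq_map _ ((reg_iff _).1 (reg_rel a c H)), ?_⟩
  rw [show RingHom.ker q.toRingHom = RingHom.ker (chartHom a c).toRingHom from
    Ideal.ext fun x => ⟨fun h => congrArg Subtype.val h, fun h => Subtype.ext h⟩, ker_chartHom a c H,
    Ideal.map_ofList]

/-- The affine chart at the head of a Koszul-regular sequence of generators is perfect. -/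
theorem isPerfectHom_chart {n : ℕ} (a : A) (c : Fin n → A) (H : Reg (a :: List.ofFn c)) :
    MoreMor.IsPerfectHom A (chartHom a c).range :=
  isPerfectHom_of_isLCI (isLCI_chart a c H)

end Groth.Agent.H7Blow
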